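import Mathlib
import Groth.Agent.H8.Localizing
import Groth.Agent.H18.QCohCriterion

/-!
# Pushforward along a closed immersion reflects quasi-coherence
-/

set_option autoImplicit false
universe u
open CategoryTheory CategoryTheory.Limits AlgebraicGeometry TopologicalSpace Opposite

namespace Groth.Agent.H33.RelPC

open Groth.Agent.H8

set_option backward.isDefEq.respectTransparency false in
/-- if `f_* F` is localizing on `V` and `Γ(S, V) → Γ(X, f⁻¹V)` is surjective, then `F` is localizing
on `f⁻¹ V` -/
theorem isLocalizingOn_of_pushforward {X S : Scheme.{u}} (f : X ⟶ S) (F : X.Modules)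
    (V : S.Opens) (hsurj : Function.Surjective (f.app V))
    (hF : IsLocalizingOn ((Scheme.Modules.pushforward f).obj F) V) :
    IsLocalizingOn F (f ⁻¹ᵁ V) := by
  constructor
  · intro g' s hs
    obtain ⟨g, rfl⟩ := hsurj g'
    have e : f ⁻¹ᵁ S.basicOpen g = X.basicOpen (f.app V g) := Scheme.preimage_basicOpen f g
    have hs' : ((Scheme.Modules.pushforward f).obj F).presheaf.map
        (homOfLE (S.basicOpen_le g)).op s = 0 := by
      have h1 : F.presheaf.map ((Opens.map f.base).map (homOfLE (S.basicOpen_le g))).op s =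
          F.presheaf.map (eqToHom e).op
            (F.presheaf.map (homOfLE (X.basicOpen_le (f.app V g))).op s) := by
        rw [presheaf_map_map]
        rfl
      change F.presheaf.map ((Opens.map f.base).map (homOfLE (S.basicOpen_le g))).op s = 0
      rw [h1, hs, map_zero]
    obtain ⟨n, hn⟩ := hF.pow_smul_eq_zero g s hs'
    refine ⟨n, ?_⟩
    rw [smul_pushforward, map_pow] at hn
    exact hn
  · intro g' t
    obtain ⟨g, rfl⟩ := hsurj g'
    have e : f ⁻¹ᵁ S.basicOpen g = X.basicOpen (f.app V g) := Scheme.preimage_basicOpen f g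
    let t' : Γ(F, f ⁻¹ᵁ S.basicOpen g) := F.presheaf.map (eqToHom e).op t
    obtain ⟨n, s, hs⟩ := hF.res_eq_pow_smul g t'
    refine ⟨n, s, ?_⟩
    rw [smul_pushforward, map_pow] at hs
    have hs2 : F.presheaf.map ((Opens.map f.base).map (homOfLE (S.basicOpen_le g))).op s =
        (f.app (S.basicOpen g) (S.presheaf.map (homOfLE (S.basicOpen_le g)).op g)) ^ n • t' := hs
    have h2 := congrArg (F.presheaf.map (eqToHom e.symm).op) hs2
    rw [presheaf_map_map] at h2
    erw [Scheme.Modules.map_smul F (eqToHom e.symm)] at h2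
    have hnat : X.presheaf.map (eqToHom e.symm).op
        (f.app (S.basicOpen g) (S.presheaf.map (homOfLE (S.basicOpen_le g)).op g)) =
        X.presheaf.map (homOfLE (X.basicOpen_le (f.app V g))).op (f.app V g) := by
      have nat := f.naturality (homOfLE (S.basicOpen_le g)).op
      have nat' : f.app (S.basicOpen g) (S.presheaf.map (homOfLE (S.basicOpen_le g)).op g) =
          X.presheaf.map ((Opens.map f.base).map (homOfLE (S.basicOpen_le g))).op
            (f.app V g) := by
        rw [← ConcreteCategory.comp_apply, nat]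
        rfl
      rw [nat', ring_map_map]
      rfl
    have ht : F.presheaf.map (eqToHom e.symm).op t' = t := by
      change F.presheaf.map _ (F.presheaf.map _ t) = t
      rw [presheaf_map_map, presheaf_map_eq F _ (𝟙 _)]
      simp
    rw [map_pow, hnat, ht] at h2
    rw [← h2]
    rfl

/-- pushforward along a closed immersion reflects quasi-coherence -/
theorem isQuasicoherent_of_pushforward {Z A : Scheme.{u}} (f : Z ⟶ A) [IsClosedImmersion f]
    (M : Z.Modules) (h : ((Scheme.Modules.pushforward f).obj M).IsQuasicoherent) :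
    M.IsQuasicoherent := by
  have hloc : ∀ W : A.affineOpens, IsLocalizingOn M (f ⁻¹ᵁ W.1) := fun W =>
    isLocalizingOn_of_pushforward f M W.1 (f.app_surjective W.1 W.2)
      (isLocalizingOn_of_isQuasicoherent _ W.2)
  refine Groth.Agent.H18.isQuasicoherent_of_localizes M (fun W : A.affineOpens => f ⁻¹ᵁ W.1)
    ?_ (fun W => W.2.preimage f) (fun W r y => ?_) (fun W r x hx => ?_)
  · rw [IsOpenCover, eq_top_iff]
    intro z _
    obtain ⟨_, ⟨W, hW, rfl⟩, hzW, -⟩ :=
      A.isBasis_affineOpens.exists_subset_of_mem_open (Set.mem_univ (f z)) isOpen_univ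
    exact Opens.mem_iSup.2 ⟨⟨W, hW⟩, hzW⟩
  · obtain ⟨n, x, hx⟩ := (hloc W).res_eq_pow_smul r y
    exact ⟨n, x, hx.symm⟩
  · exact (hloc W).pow_smul_eq_zero r x hx

end Groth.Agent.H33.RelPC
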