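import Mathlib
import Groth.Agent.H33.RelPC.ClosedReflect
import Groth.Agent.H33.PC.NoethPC
import Groth.Agent.H5.Stalk.PushClosedColim
import Groth.Prelude.Def_DerSch2

/-!
# Relative pseudo-coherence: quasi-coherent cohomology and boundedness
-/

set_option autoImplicit false
universe u
open CategoryTheory CategoryTheory.Limits AlgebraicGeometry Scheme.Modules TopologicalSpace

attribute [local instance] HasDerivedCategory.standard

namespace Groth.Agent.H33.RelPC

open Groth.Agent.H33.PC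

variable {X Y : Scheme.{u}}

/-- the chart morphism of an affine open along a surjective ring map is a closed immersion -/
theorem isClosedImmersion_chartImm (U : X.Opens) (hU : IsAffineOpen U) {R : Type u} [CommRing R]
    {n : ℕ} (φ : MvPolynomial (Fin n) R →+* Γ(X, U)) (hφ : Function.Surjective φ) :
    IsClosedImmersion (DerSch.chartImm U φ) := by
  have h1 : IsIso U.toSpecΓ := by
    have : IsAffine U := hU
    delta Scheme.Opens.toSpecΓ
    infer_instance
  have h2 : IsClosedImmersion (Spec.map (CommRingCat.ofHom φ)) :=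
    IsClosedImmersion.spec_of_surjective _ hφ
  exact IsClosedImmersion.comp _ _

/-- pushforward along a closed immersion reflects vanishing -/
theorem isZero_of_isZero_pushforward {Z A : Scheme.{u}} (f : Z ⟶ A) [IsClosedImmersion f]
    (M : Z.Modules) (h : IsZero ((Scheme.Modules.pushforward f).obj M)) : IsZero M := by
  refine Groth.Agent.H71.QCoh.isZero_of_subsingleton_sections M (fun O => ?_)
  obtain ⟨W, hW, hWO⟩ := f.isClosedEmbedding.isInducing.isOpen_iff.1 O.isOpen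
  have hO : O = f ⁻¹ᵁ (⟨W, hW⟩ : A.Opens) := by
    ext z
    rw [← hWO]
    rfl
  subst hO
  refine ⟨fun a b => ?_⟩
  have h1 : 𝟙 ((Scheme.Modules.pushforward f).obj M) = 0 := h.eq_of_src _ _
  have h2 : ∀ z : Γ((Scheme.Modules.pushforward f).obj M, ⟨W, hW⟩), z = 0 := fun z => by
    have hz : z = (𝟙 ((Scheme.Modules.pushforward f).obj M) : _ ⟶ _).app ⟨W, hW⟩ z := rfl
    rw [hz, h1]
    rfl
  exact (h2 a).trans (h2 b).symm

/-- cohomology commutes with pushforward along a closed immersion -/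
noncomputable def homologyPushIso {Z A : Scheme.{u}} (f : Z ⟶ A) [IsClosedImmersion f]
    (K : CochainComplex Z.Modules ℤ) (j : ℤ) :
    DCoh.HD (DCoh.toD A ((DerSch.pushCx f).obj K)) j ≅
      (Scheme.Modules.pushforward f).obj (DCoh.HD (DCoh.toD Z K) j) :=
  (DerivedCategory.homologyFunctor A.Modules j).mapIso
    ((Scheme.Modules.pushforward f).mapDerivedCategoryFactors.app K).symm ≪≫
  (Groth.Agent.H16.ExactDer.homologyNatIso (Scheme.Modules.pushforward f) j).app
    (DerivedCategory.Q.obj K)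

/-- a chart through a given point -/
lemma exists_chart (f : X ⟶ Y) (m : ℤ) (K : DCoh.D X) (hK : DerSch.IsPseudoCoherentRel f m K)
    (x : X) :
    ∃ (U : X.Opens) (V : Y.Opens) (n : ℕ) (φ : MvPolynomial (Fin n) Γ(Y, V) →+* Γ(X, U)),
      x ∈ U ∧ IsAffineOpen U ∧ Function.Surjective φ ∧ DerSch.ChartPC m K U V φ := by
  obtain ⟨-, 𝒱, h𝒱, H⟩ := hK
  have hx : f x ∈ (⨆ V ∈ 𝒱, (V : Y.Opens)) := by rw [h𝒱]; trivial
  obtain ⟨V, hV⟩ := Opens.mem_iSup.1 hx
  obtain ⟨hV𝒱, hxV⟩ := Opens.mem_iSup.1 hV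
  obtain ⟨𝒰, h𝒰, H'⟩ := H V hV𝒱
  have hx' : x ∈ (⨆ U ∈ 𝒰, (U : X.Opens)) := by rw [h𝒰]; exact hxV
  obtain ⟨U, hU⟩ := Opens.mem_iSup.1 hx'
  obtain ⟨hU𝒰, hxU⟩ := Opens.mem_iSup.1 hU
  have hle : (U : X.Opens) ≤ f ⁻¹ᵁ (V : Y.Opens) := by
    rw [← h𝒰]
    exact le_iSup₂ (f := fun (U : X.affineOpens) (_ : U ∈ 𝒰) => (U : X.Opens)) U hU𝒰
  obtain ⟨n, φ, hφ, hpc⟩ := H' U hU𝒰 hle
  exact ⟨U, V, n, φ, hxU, U.2, hφ.1, hpc⟩

/-- the consequence of the chart condition: the direct image of the restriction of the cohomology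
sheaves are the cohomology sheaves of a pseudo-coherent object of the affine space -/
lemma exists_pc_of_chartPC (m : ℤ) (K : DCoh.D X) (U : X.Opens) (hU : IsAffineOpen U)
    {V : Y.Opens} {n : ℕ} (φ : MvPolynomial (Fin n) Γ(Y, V) →+* Γ(X, U))
    (hφ : Function.Surjective φ) (hpc : DerSch.ChartPC m K U V φ) :
    ∃ P : DCoh.D (Spec (CommRingCat.of (MvPolynomial (Fin n) Γ(Y, V)))),
      DCoh.IsPseudoCoherentD m P ∧ ∀ j : ℤ, Nonempty (DCoh.HD P j ≅
        (Scheme.Modules.pushforward (DerSch.chartImm U φ)).obj ((DCoh.HD K j).restrict U.ι)) := by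
  have := isClosedImmersion_chartImm U hU φ hφ
  let G := DerivedCategory.Q.objPreimage K
  let eG : DCoh.toD X G ≅ K := DerivedCategory.Q.objObjPreimageIso K
  refine ⟨_, hpc G ⟨eG⟩, fun j => ⟨?_⟩⟩
  exact homologyPushIso (DerSch.chartImm U φ) ((DCoh.restrictCx U).obj G) j ≪≫
    (Scheme.Modules.pushforward (DerSch.chartImm U φ)).mapIso (homologyRestrictIso K G eG U j)

theorem isQCoh_HD_of_isPseudoCoherentRel (f : X ⟶ Y) (m : ℤ) (K : DCoh.D X)
    (hK : DerSch.IsPseudoCoherentRel f m K) (j : ℤ) (hj : m < j) : Coh.IsQCoh (DCoh.HD K j) := by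
  choose U V n φ hxU hU hφ hpc using exists_chart f m K hK
  have hcov : IsOpenCover U := by
    rw [IsOpenCover, eq_top_iff]
    intro x _
    exact Opens.mem_iSup.2 ⟨x, hxU x⟩
  refine Groth.Agent.H18.isQuasicoherent_of_isOpenCover _ U hcov (fun x => ?_)
  have := isClosedImmersion_chartImm (U x) (hU x) (φ x) (hφ x)
  obtain ⟨P, hP, hiso⟩ := exists_pc_of_chartPC m K (U x) (hU x) (φ x) (hφ x) (hpc x)
  obtain ⟨e⟩ := hiso j
  have h1 : (DCoh.HD P j).IsQuasicoherent := isQCoh_HD_of_pseudoCoherent m P hP j hj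
  have h2 := Groth.Agent.H12.QCohAbelian.isQuasicoherent_of_iso e
  exact isQuasicoherent_of_pushforward (DerSch.chartImm (U x) (φ x)) _ h2

theorem exists_isLE_of_isPseudoCoherentRel [CompactSpace X] (f : X ⟶ Y) (m : ℤ) (K : DCoh.D X)
    (hK : DerSch.IsPseudoCoherentRel f m K) : ∃ b : ℤ, K.IsLE b := by
  choose U V n φ hxU hU hφ hpc using exists_chart f m K hK
  have key : ∀ x : X, ∃ b : ℤ, ∀ j : ℤ, b < j → IsZero ((DCoh.HD K j).restrict (U x).ι) := by
    intro x
    have := isClosedImmersion_chartImm (U x) (hU x) (φ x) (hφ x)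
    obtain ⟨P, hP, hiso⟩ := exists_pc_of_chartPC m K (U x) (hU x) (φ x) (hφ x) (hpc x)
    obtain ⟨b, hb⟩ := exists_isLE_of_pc P m hP
    refine ⟨b, fun j hj => ?_⟩
    obtain ⟨e⟩ := hiso j
    exact isZero_of_isZero_pushforward (DerSch.chartImm (U x) (φ x)) _
      (IsZero.of_iso (DerivedCategory.isZero_of_isLE P b j hj) e.symm)
  choose b hb using key
  obtain ⟨t, ht⟩ := CompactSpace.elim_nhds_subcover (fun x => ((U x : X.Opens) : Set X))
    (fun x => (U x).isOpen.mem_nhds (hxU x))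
  obtain ⟨B, hB⟩ := (t.image b).exists_le
  have hcov : ∀ y : X, ∃ x ∈ t, y ∈ U x := by
    intro y
    have : y ∈ ⋃ x ∈ t, ((U x : X.Opens) : Set X) := by rw [ht]; trivial
    simpa using this
  refine ⟨B, ?_⟩
  rw [DerivedCategory.isLE_iff]
  intro j hj
  refine isZero_of_locally _ (fun y => ?_)
  obtain ⟨x, hxt, hyx⟩ := hcov y
  have h2 : b x ≤ B := hB _ (Finset.mem_image_of_mem b hxt)
  exact ⟨U x, hyx, hb x j (by omega)⟩

end Groth.Agent.H33.RelPC
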