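import Mathlib
import Groth.Agent.H5.PCSummand
import Groth.Prelude.Def_DerSch2

/-!
# Direct summands of relatively pseudo-coherent objects
-/

set_option autoImplicit false
universe u
open CategoryTheory CategoryTheory.Limits AlgebraicGeometry Scheme.Modules TopologicalSpace

attribute [local instance] HasDerivedCategory.standard

namespace Groth.Agent.H33.RelPC

variable {X Y : Scheme.{u}}

attribute [local instance] preservesBinaryBiproducts_of_preservesBiproducts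

/-- the functor computing the chart test -/
noncomputable abbrev chartFunctor (U : X.Opens) {R : Type u} [CommRing R] {n : ℕ}
    (φ : MvPolynomial (Fin n) R →+* Γ(X, U)) :
    CochainComplex X.Modules ℤ ⥤ DCoh.D (Spec (CommRingCat.of (MvPolynomial (Fin n) R))) :=
  DCoh.restrictCx U ⋙ DerSch.pushCx (DerSch.chartImm U φ) ⋙ DerivedCategory.Q

lemma chartPC_fst (m : ℤ) (E K : DCoh.D X) [HasBinaryBiproduct E K] (U : X.Opens) (V : Y.Opens)
    {n : ℕ} (φ : MvPolynomial (Fin n) Γ(Y, V) →+* Γ(X, U))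
    (h : DerSch.ChartPC m (E ⊞ K) U V φ) : DerSch.ChartPC m E U V φ := by
  intro G ⟨eG⟩
  let GK := DerivedCategory.Q.objPreimage K
  let eK : DerivedCategory.Q.obj GK ≅ K := DerivedCategory.Q.objObjPreimageIso K
  have e1 : DCoh.toD X (G ⊞ GK) ≅ E ⊞ K :=
    DerivedCategory.Q.mapBiprod G GK ≪≫ biprod.mapIso eG eK
  have h1 := h (G ⊞ GK) ⟨e1⟩
  have e2 : (chartFunctor U φ).obj (G ⊞ GK) ≅
      (chartFunctor U φ).obj G ⊞ (chartFunctor U φ).obj GK := (chartFunctor U φ).mapBiprod G GK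
  exact (Groth.Agent.H5.PCSummand.summands m _ _
    (Groth.Agent.H5.PCTriangle.isPseudoCoherentD_of_iso e2 h1)).1

lemma chartPC_snd (m : ℤ) (E K : DCoh.D X) [HasBinaryBiproduct E K] (U : X.Opens) (V : Y.Opens)
    {n : ℕ} (φ : MvPolynomial (Fin n) Γ(Y, V) →+* Γ(X, U))
    (h : DerSch.ChartPC m (E ⊞ K) U V φ) : DerSch.ChartPC m K U V φ := by
  intro G ⟨eG⟩
  let GE := DerivedCategory.Q.objPreimage E
  let eE : DerivedCategory.Q.obj GE ≅ E := DerivedCategory.Q.objObjPreimageIso E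
  have e1 : DCoh.toD X (GE ⊞ G) ≅ E ⊞ K :=
    DerivedCategory.Q.mapBiprod GE G ≪≫ biprod.mapIso eE eG
  have h1 := h (GE ⊞ G) ⟨e1⟩
  have e2 : (chartFunctor U φ).obj (GE ⊞ G) ≅
      (chartFunctor U φ).obj GE ⊞ (chartFunctor U φ).obj G := (chartFunctor U φ).mapBiprod GE G
  exact (Groth.Agent.H5.PCSummand.summands m _ _
    (Groth.Agent.H5.PCTriangle.isPseudoCoherentD_of_iso e2 h1)).2

theorem isPseudoCoherentRel_of_biprod (f : X ⟶ Y) (m : ℤ) (E K : DCoh.D X)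
    [HasBinaryBiproduct E K] (h : DerSch.IsPseudoCoherentRel f m (E ⊞ K)) :
    DerSch.IsPseudoCoherentRel f m E ∧ DerSch.IsPseudoCoherentRel f m K := by
  obtain ⟨hf, 𝒱, h𝒱, H⟩ := h
  refine ⟨⟨hf, 𝒱, h𝒱, fun V hV => ?_⟩, ⟨hf, 𝒱, h𝒱, fun V hV => ?_⟩⟩
  · obtain ⟨𝒰, h𝒰, H'⟩ := H V hV
    refine ⟨𝒰, h𝒰, fun U hU hle => ?_⟩
    obtain ⟨n, φ, hφ, hpc⟩ := H' U hU hle
    exact ⟨n, φ, hφ, chartPC_fst m E K _ _ φ hpc⟩
  · obtain ⟨𝒰, h𝒰, H'⟩ := H V hV
    refine ⟨𝒰, h𝒰, fun U hU hle => ?_⟩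
    obtain ⟨n, φ, hφ, hpc⟩ := H' U hU hle
    exact ⟨n, φ, hφ, chartPC_snd m E K _ _ φ hpc⟩

end Groth.Agent.H33.RelPC
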